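import Groth.Agent.PicNormal23.Affine
import Groth.Agent.PicLib.PicGroup

/-!
# The Picard group of a product with an open subscheme of affine space
-/

set_option autoImplicit false
set_option linter.style.haveILetI false
set_option backward.isDefEq.respectTransparency.types false

universe u

open CategoryTheory CategoryTheory.Limits AlgebraicGeometry
open Groth.Agent.PicLib

namespace Groth.Agent.PicNormal23

theorem existsUnique_pullCl_eq {S U Y : Scheme.{u}} {n : ℕ} (i : U ⟶ 𝔸(ULift.{u} (Fin n); S))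
    [IsOpenImmersion i] (u : S ⟶ U) (hu : u ≫ i ≫ (𝔸(ULift.{u} (Fin n); S) ↘ S) = 𝟙 S)
    (g : Y ⟶ S) [IsIntegral Y] [IsNoetherian Y] (hY : Pi1.IsNormalScheme Y)
    (c' : PicF.Cl (pullback g (i ≫ (𝔸(ULift.{u} (Fin n); S) ↘ S)))) (hc' : PicF.IsInvertibleCl c') :
    ∃! c : PicF.Cl Y, PicF.IsInvertibleCl c ∧
      PicF.pullCl (pullback.fst g (i ≫ (𝔸(ULift.{u} (Fin n); S) ↘ S))) c = c' := by
  let p := pullback.fst g (i ≫ (𝔸(ULift.{u} (Fin n); S) ↘ S))
  let σ : Y ⟶ pullback g (i ≫ (𝔸(ULift.{u} (Fin n); S) ↘ S)) :=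
    pullback.lift (𝟙 Y) (g ≫ u) (by rw [Category.assoc, hu, Category.comp_id, Category.id_comp])
  have hσ : σ ≫ p = 𝟙 Y := pullback.lift_fst _ _ _
  have hpb := AffineSpace.isPullback_map (n := ULift.{u} (Fin n)) g
  let ι : pullback g (i ≫ (𝔸(ULift.{u} (Fin n); S) ↘ S)) ⟶ 𝔸(ULift.{u} (Fin n); Y) :=
    hpb.lift (pullback.snd _ _ ≫ i) p (by rw [Category.assoc]; exact pullback.condition.symm)
  have hι : ι ≫ (𝔸(ULift.{u} (Fin n); Y) ↘ Y) = p := hpb.lift_snd _ _ _
  have hsq : IsPullback (pullback.snd g (i ≫ (𝔸(ULift.{u} (Fin n); S) ↘ S))) ι i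
      (AffineSpace.map (ULift.{u} (Fin n)) g) :=
    IsPullback.of_bot (by rw [hι]; exact (IsPullback.of_hasPullback _ _).flip) (hpb.lift_fst _ _ _).symm hpb
  haveI : IsOpenImmersion ι := MorphismProperty.of_isPullback hsq inferInstance
  let a : PicM _ := ⟨c', hc'⟩
  refine ⟨(PicM.pull σ a).val, ⟨(PicM.pull σ a).prop, ?_⟩, ?_⟩
  · obtain ⟨d, hd⟩ := PicM.exists_mul_eq_one (PicM.pull p (PicM.pull σ a))
    obtain ⟨M, hM, hMa⟩ := PicM.exists_eq_of (a * d)
    have h1 : PicM.pull σ (a * d) = 1 := by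
      have := congrArg (PicM.pull σ) hd
      rw [map_mul, map_one, PicM.pull_pull, hσ, PicM.pull_id] at this
      rwa [map_mul]
    rw [hMa, PicM.pull_of, PicM.of_eq_one_iff] at h1
    have h2 : a * d = 1 := by
      rw [hMa, PicM.of_eq_one_iff]
      exact nonempty_iso_of_affineSpace hY ι p hι σ hσ hM h1
    exact congrArg PicM.val (PicM.eq_of_mul_inv hd h2).symm
  · rintro c ⟨hc, hce⟩
    have h : PicM.pull p ⟨c, hc⟩ = a := PicM.ext hce
    have h' := congrArg (PicM.pull σ) h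
    rw [PicM.pull_pull, hσ, PicM.pull_id] at h'
    exact congrArg PicM.val h'

end Groth.Agent.PicNormal23
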