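import Mathlib.RingTheory.MvPolynomial.Localization
import Mathlib.RingTheory.Polynomial.UniqueFactorization
import Mathlib.RingTheory.UniqueFactorizationDomain.Ideal
import Mathlib.RingTheory.Localization.FractionRing
import Mathlib.RingTheory.Localization.Ideal
import Mathlib.RingTheory.Polynomial.Quotient

/-!
# Codimension one primes of a polynomial ring over a domain
-/

set_option autoImplicit false
set_option linter.style.haveILetI false

universe u v

namespace Groth.Agent.PicNormal23

/-- A minimal nonzero prime. -/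
def IsMinNonzero {T : Type u} [CommRing T] (Q : Ideal T) : Prop :=
  Q ≠ ⊥ ∧ ∀ q : Ideal T, q.IsPrime → q ≤ Q → q = Q ∨ q = ⊥

/-- Minimal nonzero primes surviving in a factorial localization are locally principal, and their equation
is a unit at the other surviving minimal nonzero primes. -/
theorem exists_gen_of_isLocalization {T L : Type u} [CommRing T] [IsDomain T] [CommRing L] [IsDomain L]
    [UniqueFactorizationMonoid L] [Algebra T L] (M : Submonoid T) [IsLocalization M L]
    (hM : M ≤ nonZeroDivisors T) (Q : Ideal T) [Q.IsPrime] (hQ : IsMinNonzero Q)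
    (hd : Disjoint (M : Set T) Q) :
    ∃ a ∈ Q, (∀ x ∈ Q, ∃ s ∉ Q, a ∣ s * x) ∧
      ∀ q : Ideal T, q.IsPrime → IsMinNonzero q → Disjoint (M : Set T) q → a ∈ q → q = Q := by
  have hinj : Function.Injective (algebraMap T L) := IsLocalization.injective L hM
  haveI hQ' : (Q.map (algebraMap T L)).IsPrime :=
    IsLocalization.isPrime_of_isPrime_disjoint M L Q ‹_› hd
  have hne : Q.map (algebraMap T L) ≠ ⊥ := fun h => hQ.1 (by
    rwa [Ideal.map_eq_bot_iff_of_injective hinj] at h)
  obtain ⟨π, hπQ, hπ⟩ := hQ'.exists_mem_prime_of_ne_bot hne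
  obtain ⟨⟨a, s⟩, has⟩ := IsLocalization.surj M π
  have hassoc : Associated π (algebraMap T L a) :=
    ⟨(IsLocalization.map_units L s).unit, has⟩
  have ha' : Prime (algebraMap T L a) := hassoc.prime hπ
  have haQ : a ∈ Q := by
    rw [← IsLocalization.under_map_of_isPrime_disjoint M L ‹Q.IsPrime› hd, Ideal.mem_comap]
    exact Ideal.mem_of_dvd _ hassoc.dvd hπQ
  haveI hspan : (Ideal.span {algebraMap T L a}).IsPrime :=
    (Ideal.span_singleton_prime ha'.ne_zero).2 ha'
  have hcomap : ∀ q : Ideal T, q.IsPrime → Disjoint (M : Set T) q → a ∈ q →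
      (Ideal.span {algebraMap T L a}).comap (algebraMap T L) ≤ q := fun q hq hqd haq => by
    refine le_trans (Ideal.comap_mono ((Ideal.span_singleton_le_iff_mem _).2 (Ideal.mem_map_of_mem _ haq))) ?_
    exact (IsLocalization.under_map_of_isPrime_disjoint M L hq hqd).le
  have hne' : (Ideal.span {algebraMap T L a}).comap (algebraMap T L) ≠ ⊥ := fun h => by
    have ha0 : a ∈ (⊥ : Ideal T) := h ▸ Ideal.mem_comap.2 (Ideal.mem_span_singleton_self _)
    exact ha'.ne_zero (by rw [(Submodule.mem_bot T).1 ha0, map_zero])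
  have heq : (Ideal.span {algebraMap T L a}).comap (algebraMap T L) = Q :=
    (hQ.2 _ inferInstance (hcomap Q ‹_› hd haQ)).resolve_right hne'
  refine ⟨a, haQ, fun x hx => ?_, fun q hq hqm hqd haq => ?_⟩
  · rw [← heq, Ideal.mem_comap, Ideal.mem_span_singleton] at hx
    obtain ⟨c, hc⟩ := hx
    obtain ⟨⟨b, t⟩, hbt⟩ := IsLocalization.surj M c
    refine ⟨t, fun ht => Set.disjoint_left.1 hd t.2 ht, b, hinj ?_⟩
    rw [map_mul, map_mul, ← hbt, hc]
    ring
  · have hle := hcomap q hq hqd haq
    rw [heq] at hle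
    exact ((hqm.2 Q ‹_› hle).resolve_right hQ.1).symm

variable {R : Type u} [CommRing R] {σ : Type u}

/-- Horizontal codimension one primes of a polynomial ring. -/
theorem exists_gen_of_comap_C [IsDomain R] (Q : Ideal (MvPolynomial σ R)) [Q.IsPrime]
    (hQ : IsMinNonzero Q) (hh : Q.comap (MvPolynomial.C : R →+* MvPolynomial σ R) = ⊥) :
    ∃ a ∈ Q, (∀ x ∈ Q, ∃ s ∉ Q, a ∣ s * x) ∧
      ∀ q : Ideal (MvPolynomial σ R), q.IsPrime → IsMinNonzero q →
        q.comap (MvPolynomial.C : R →+* MvPolynomial σ R) = ⊥ → a ∈ q → q = Q := by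
  letI : Algebra (MvPolynomial σ R) (MvPolynomial σ (FractionRing R)) := MvPolynomial.algebraMvPolynomial
  have hd : ∀ q : Ideal (MvPolynomial σ R), q.comap (MvPolynomial.C : R →+* MvPolynomial σ R) = ⊥ →
      Disjoint (((nonZeroDivisors R).map (MvPolynomial.C (σ := σ))) : Set (MvPolynomial σ R)) q := by
    refine fun q hq => Set.disjoint_left.2 ?_
    rintro _ ⟨r, hr, rfl⟩ hrq
    exact nonZeroDivisors.ne_zero hr ((Submodule.mem_bot R).1 (hq ▸ Ideal.mem_comap.2 hrq))
  obtain ⟨a, ha, h1, h2⟩ := exists_gen_of_isLocalization (L := MvPolynomial σ (FractionRing R))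
    ((nonZeroDivisors R).map (MvPolynomial.C (σ := σ))) (by
      rintro _ ⟨r, hr, rfl⟩
      exact mem_nonZeroDivisors_of_ne_zero fun h =>
        nonZeroDivisors.ne_zero hr (MvPolynomial.C_eq_zero.1 h)) Q hQ (hd Q hh)
  exact ⟨a, ha, h1, fun q hq hqm hqh => h2 q hq hqm (hd q hqh)⟩

/-- Vertical codimension one primes of a polynomial ring are extended from the base. -/
theorem eq_map_comap_C [IsDomain R] (Q : Ideal (MvPolynomial σ R)) [Q.IsPrime] (hQ : IsMinNonzero Q)
    (hv : Q.comap (MvPolynomial.C : R →+* MvPolynomial σ R) ≠ ⊥) :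
    IsMinNonzero (Q.comap (MvPolynomial.C : R →+* MvPolynomial σ R)) ∧
      Q = (Q.comap (MvPolynomial.C : R →+* MvPolynomial σ R)).map MvPolynomial.C := by
  have hinj : Function.Injective (MvPolynomial.C : R →+* MvPolynomial σ R) := MvPolynomial.C_injective σ R
  have hpr : ∀ p : Ideal R, p.IsPrime → (p.map (MvPolynomial.C : R →+* MvPolynomial σ R)).IsPrime := by
    intro p hp
    rw [← Ideal.mk_ker (I := p), ← MvPolynomial.ker_map]
    exact RingHom.ker_isPrime _
  have hcm : ∀ p : Ideal R,
      (p.map (MvPolynomial.C : R →+* MvPolynomial σ R)).comap MvPolynomial.C = p := fun p => by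
    refine le_antisymm (fun r hr => ?_) Ideal.le_comap_map
    simpa using MvPolynomial.mem_map_C_iff.1 (Ideal.mem_comap.1 hr) 0
  have key : ∀ p : Ideal R, p.IsPrime → p ≤ Q.comap MvPolynomial.C → p ≠ ⊥ →
      p.map (MvPolynomial.C : R →+* MvPolynomial σ R) = Q := fun p hp hle hne =>
    (hQ.2 _ (hpr p hp) (Ideal.map_le_iff_le_comap.2 hle)).resolve_right fun h => hne
      ((Ideal.map_eq_bot_iff_of_injective hinj).1 h)
  refine ⟨⟨hv, fun p hp hle => ?_⟩, (key _ inferInstance le_rfl hv).symm⟩
  by_cases hne : p = ⊥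
  · exact Or.inr hne
  · refine Or.inl ?_
    conv_rhs => rw [← key p hp hle hne, hcm p]

end Groth.Agent.PicNormal23
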