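import Groth.Agent.PicNormal23.Section
import Groth.Agent.PicNormal23.Poly
import Groth.Agent.NormalExtLib.Basic
import Mathlib.AlgebraicGeometry.AffineSpace
import Mathlib.AlgebraicGeometry.Noetherian

/-!
# Open subschemes of affine space over a normal base
-/

set_option autoImplicit false
set_option linter.style.haveILetI false
set_option backward.isDefEq.respectTransparency.types false
set_option maxHeartbeats 800000

universe u

open CategoryTheory CategoryTheory.Limits AlgebraicGeometry Opposite TopologicalSpace IsLocalRing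

namespace Groth.Agent.PicNormal23

theorem isPrimeDiv_iff_of_isOpenImmersion {X Z : Scheme.{u}} [IsIntegral X] [IsIntegral Z] (f : X ⟶ Z)
    [IsOpenImmersion f] (x : X) : IsPrimeDiv (f x) ↔ IsPrimeDiv x := by
  have hf := f.isOpenEmbedding
  have hη : f (genericPoint X) = genericPoint Z := genericPoint_eq_of_isOpenImmersion f
  constructor
  · rintro ⟨h1, h2⟩
    refine ⟨fun e => h1 (e ▸ hη), fun w hw => ?_⟩
    rcases h2 (f w) (hw.map f.continuous) with h | h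
    · exact Or.inl (hf.injective h)
    · exact Or.inr (hf.injective (h.trans hη.symm))
  · rintro ⟨h1, h2⟩
    refine ⟨fun e => h1 (hf.injective (e.trans hη.symm)), fun w hw => ?_⟩
    obtain ⟨w', rfl⟩ : w ∈ Set.range f := hw.mem_open hf.isOpen_range ⟨x, rfl⟩
    rcases h2 w' (hf.isInducing.specializes_iff.1 hw) with h | h
    · exact Or.inl (congrArg f h)
    · exact Or.inr ((congrArg f h).trans hη)

theorem isPrimeDiv_spec_iff {T : CommRingCat.{u}} [IsDomain T] (Q : PrimeSpectrum T) :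
    IsPrimeDiv (P := Spec T) Q ↔ IsMinNonzero Q.asIdeal := by
  have hη : genericPoint (Spec T) = (⊥ : PrimeSpectrum T) := genericPoint_eq_bot_of_affine T
  have hb : ∀ q : PrimeSpectrum T, q = (⊥ : PrimeSpectrum T) ↔ q.asIdeal = ⊥ := fun q =>
    ⟨fun h => congrArg PrimeSpectrum.asIdeal h, fun h => PrimeSpectrum.ext h⟩
  constructor
  · rintro ⟨h1, h2⟩
    refine ⟨fun h => h1 (((hb Q).2 h).trans hη.symm), fun q hq hle => ?_⟩
    rcases h2 (⟨q, hq⟩ : PrimeSpectrum T) ((PrimeSpectrum.le_iff_specializes ⟨q, hq⟩ Q).1 hle) with h | h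
    · exact Or.inl (congrArg PrimeSpectrum.asIdeal h)
    · exact Or.inr ((hb ⟨q, hq⟩).1 (h.trans hη))
  · rintro ⟨h1, h2⟩
    refine ⟨fun h => h1 ((hb Q).1 (h.trans hη)), fun w hw => ?_⟩
    let q : PrimeSpectrum T := w
    rcases h2 q.asIdeal q.2 ((PrimeSpectrum.le_iff_specializes q Q).2 hw) with h | h
    · exact Or.inl (PrimeSpectrum.ext h)
    · exact Or.inr (((hb q).2 h).trans hη.symm)

section Chart

variable {Z : Scheme.{u}} {T : CommRingCat.{u}} (j : Spec T ⟶ Z) [IsOpenImmersion j]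

/-- The function on a chart given by an element of its coordinate ring. -/
noncomputable def chartSec (a : T) : Γ(Z, j ''ᵁ ⊤) := (j.appIso ⊤).inv ((Scheme.ΓSpecIso T).inv a)

theorem isLocalization_stalkMap (Q : PrimeSpectrum T) (h : j Q ∈ j ''ᵁ ⊤) :
    ∃ e : Z.presheaf.stalk (j Q) ≃+* Localization.AtPrime Q.asIdeal,
      ∀ a : T, e (Z.presheaf.germ (j ''ᵁ ⊤) (j Q) h (chartSec j a)) = algebraMap T _ a := by
  refine ⟨(asIso (j.stalkMap Q) ≪≫ Spec.stalkIso T Q).commRingCatIsoToRingEquiv, fun a => ?_⟩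
  show (Spec.stalkIso T Q).hom (j.stalkMap Q (Z.presheaf.germ (j ''ᵁ ⊤) (j Q) h (chartSec j a))) = _
  rw [Scheme.Hom.germ_stalkMap_apply]
  have h1 : j.app (j ''ᵁ ⊤) (chartSec j a) =
      (Spec T).presheaf.map (eqToHom (Scheme.Hom.preimage_image_eq j ⊤)).op ((Scheme.ΓSpecIso T).inv a) :=
    ConcreteCategory.congr_hom (Scheme.Hom.appIso_inv_app j ⊤) _
  rw [h1, show ∀ (U : (Spec T).Opens) (i : U ⟶ ⊤) (hU : Q ∈ U) (s : Γ(Spec T, ⊤)),
    (Spec T).presheaf.germ U Q hU ((Spec T).presheaf.map i.op s) = (Spec T).presheaf.germ ⊤ Q trivial s from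
    fun U i hU s => TopCat.Presheaf.germ_res_apply _ i Q hU s]
  have h2 := ConcreteCategory.congr_hom (Spec.germ_stalkMapIso_hom Q) ((Scheme.ΓSpecIso T).inv a)
  refine Eq.trans h2 ?_
  show algebraMap T (Localization.AtPrime Q.asIdeal) (((Scheme.ΓSpecIso T).inv ≫ (Scheme.ΓSpecIso T).hom) a) = _
  rw [Iso.inv_hom_id]
  rfl

variable {P : Scheme.{u}} (ι : P ⟶ Z) [IsOpenImmersion ι]

/-- Units and uniformisers in a chart. -/
theorem chartSec_stalk (a : T) {z : P} (Q : PrimeSpectrum T) (hzQ : ι z = j Q) (hz : z ∈ ι ⁻¹ᵁ (j ''ᵁ ⊤)) :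
    (a ∉ Q.asIdeal → IsUnit (P.presheaf.germ _ z hz (ι.app _ (chartSec j a)))) ∧
    ((a ∈ Q.asIdeal ∧ ∀ x ∈ Q.asIdeal, ∃ s ∉ Q.asIdeal, a ∣ s * x) →
      ∀ [IsDomain (P.presheaf.stalk z)] [IsDiscreteValuationRing (P.presheaf.stalk z)],
        Irreducible (P.presheaf.germ _ z hz (ι.app _ (chartSec j a)))) := by
  have key : ∀ (x : Z) (_ : x = j Q) (hx : x ∈ j ''ᵁ ⊤),
      (a ∉ Q.asIdeal → IsUnit (Z.presheaf.germ _ x hx (chartSec j a))) ∧
      ((a ∈ Q.asIdeal ∧ ∀ y ∈ Q.asIdeal, ∃ s ∉ Q.asIdeal, a ∣ s * y) →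
        ∀ m : Z.presheaf.stalk x, ¬ IsUnit m → Z.presheaf.germ _ x hx (chartSec j a) ∣ m) ∧
      (a ∈ Q.asIdeal → ¬ IsUnit (Z.presheaf.germ _ x hx (chartSec j a))) := by
    rintro _ rfl hx
    obtain ⟨e, he⟩ := isLocalization_stalkMap j Q hx
    refine ⟨fun ha => ?_, fun h m hm => ?_, fun ha hu => ?_⟩
    · rw [← isUnit_map_iff e, he]
      exact (IsLocalization.AtPrime.isUnit_to_map_iff _ Q.asIdeal a).2 ha
    · rw [← map_dvd_iff e, he]
      obtain ⟨⟨y, t⟩, hyt⟩ := IsLocalization.surj Q.asIdeal.primeCompl (e m)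
      have hy : y ∈ Q.asIdeal := by
        by_contra hy
        exact hm ((isUnit_map_iff e m).1 (isUnit_of_mul_isUnit_left
          (hyt ▸ (IsLocalization.AtPrime.isUnit_to_map_iff _ Q.asIdeal y).2 hy)))
      obtain ⟨s, hs, c, hc⟩ := h.2 y hy
      refine ((IsLocalization.map_units _ t).dvd_mul_right).1 ?_
      rw [hyt]
      refine (((IsLocalization.AtPrime.isUnit_to_map_iff _ Q.asIdeal s).2 hs).dvd_mul_left).1 ?_
      rw [← map_mul, hc, map_mul]
      exact Dvd.intro _ rfl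
    · rw [← isUnit_map_iff e, he] at hu
      exact (IsLocalization.AtPrime.isUnit_to_map_iff _ Q.asIdeal a).1 hu ha
  obtain ⟨k1, k2, k3⟩ := key (ι z) hzQ hz
  have e : P.presheaf.germ _ z hz (ι.app _ (chartSec j a)) =
      ι.stalkMap z (Z.presheaf.germ _ (ι z) hz (chartSec j a)) :=
    (Scheme.Hom.germ_stalkMap_apply ι _ z hz _).symm
  refine ⟨fun ha => e ▸ (k1 ha).map _, fun h _ _ => ?_⟩
  rw [IsDiscreteValuationRing.irreducible_iff_uniformizer, e]
  refine le_antisymm (fun m hm => ?_) ((Ideal.span_singleton_le_iff_mem _).2 ?_)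
  · rw [Ideal.mem_span_singleton]
    obtain ⟨m', rfl⟩ := (ConcreteCategory.bijective_of_isIso (ι.stalkMap z)).2 m
    exact map_dvd _ (k2 h m' fun hu => (mem_maximalIdeal _).1 hm (hu.map _))
  · exact (mem_maximalIdeal _).2 fun hu => k3 h.1 (isUnit_of_map_unit (ι.stalkMap z).hom _ hu)

end Chart

/-- The affine space over an affine open of the base is a chart. -/
theorem exists_chart (σ : Type u) {Y : Scheme.{u}} {V : Y.Opens} (hV : IsAffineOpen V) :
    ∃ (j : Spec (CommRingCat.of (MvPolynomial σ Γ(Y, V))) ⟶ 𝔸(σ; Y)) (_ : IsOpenImmersion j),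
      j ≫ (𝔸(σ; Y) ↘ Y) = Spec.map (CommRingCat.ofHom MvPolynomial.C) ≫ hV.fromSpec ∧
      ∀ x, (𝔸(σ; Y) ↘ Y) x ∈ V → ∃ Q, j Q = x := by
  have hpb := AffineSpace.isPullback_map (n := σ) hV.fromSpec
  haveI : IsOpenImmersion (AffineSpace.map σ hV.fromSpec) :=
    MorphismProperty.of_isPullback hpb.flip inferInstance
  refine ⟨(AffineSpace.SpecIso σ Γ(Y, V)).inv ≫ AffineSpace.map σ hV.fromSpec, inferInstance, ?_, fun x hx => ?_⟩
  · rw [Category.assoc, AffineSpace.map_over, AffineSpace.SpecIso_inv_over_assoc]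
  · obtain ⟨v, hv⟩ : (𝔸(σ; Y) ↘ Y) x ∈ Set.range hV.fromSpec := hV.range_fromSpec.ge hx
    obtain ⟨a, ha⟩ := Scheme.Pullback.exists_preimage_pullback (f := 𝔸(σ; Y) ↘ Y) (g := hV.fromSpec) x v hv.symm
    refine ⟨(AffineSpace.SpecIso σ Γ(Y, V)).hom (hpb.isoPullback.inv a), ?_⟩
    rw [← Scheme.Hom.comp_apply, ← Scheme.Hom.comp_apply, Iso.hom_inv_id_assoc,
      hpb.isoPullback_inv_fst]
    exact ha.1

theorem isIntegrallyClosed_mvPolynomial (W : Type u) [CommRing W] [IsDomain W] [IsIntegrallyClosed W] :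
    ∀ n : ℕ, IsIntegrallyClosed (MvPolynomial (ULift.{u} (Fin n)) W) := fun n => by
  have key : ∀ e : ℕ, IsIntegrallyClosed (MvPolynomial (Fin e) W) := fun e => by
    induction e with
    | zero => exact IsIntegrallyClosed.of_equiv (MvPolynomial.isEmptyRingEquiv W (Fin 0)).symm
    | succ e ih => exact IsIntegrallyClosed.of_equiv (MvPolynomial.finSuccEquiv W e).symm.toRingEquiv
  haveI := key n
  exact IsIntegrallyClosed.of_equiv (MvPolynomial.renameEquiv W Equiv.ulift.symm).toRingEquiv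

variable {n : ℕ} {Y : Scheme.{u}} [IsIntegral Y]

theorem isNormal_affineSpace (hY : Pi1.IsNormalScheme Y) : Pi1.IsNormalScheme 𝔸(ULift.{u} (Fin n); Y) := by
  intro x
  obtain ⟨V, hV, hxV, -⟩ := exists_isAffineOpen_mem_and_subset
    (x := (𝔸(ULift.{u} (Fin n); Y) ↘ Y) x) (U := (⊤ : Y.Opens)) trivial
  haveI : Nonempty V := ⟨⟨_, hxV⟩⟩
  haveI := NormalExtLib.isIntegrallyClosed_sections hY V hV
  haveI := isIntegrallyClosed_mvPolynomial Γ(Y, V) n
  obtain ⟨j, _, -, hj⟩ := exists_chart (ULift.{u} (Fin n)) hV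
  obtain ⟨Q, rfl⟩ := hj x hxV
  obtain ⟨e, -⟩ := isLocalization_stalkMap j Q ⟨Q, trivial, rfl⟩
  let L := Localization.AtPrime (Q : PrimeSpectrum (MvPolynomial (ULift.{u} (Fin n)) Γ(Y, V))).asIdeal
  have hle := Ideal.primeCompl_le_nonZeroDivisors (Q : PrimeSpectrum (MvPolynomial (ULift.{u} (Fin n)) Γ(Y, V))).asIdeal
  haveI : IsDomain L := IsLocalization.isDomain_localization hle
  haveI : IsIntegrallyClosed L := isIntegrallyClosed_of_isLocalization L
    (Q : PrimeSpectrum (MvPolynomial (ULift.{u} (Fin n)) Γ(Y, V))).asIdeal.primeCompl hle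
  haveI := e.injective.isDomain e.toRingHom
  exact ⟨inferInstance, IsIntegrallyClosed.of_equiv (R := L) e.symm⟩

/-- An invertible module on an open subscheme of affine space over a normal Noetherian base which is
trivial along a section is trivial. -/
theorem nonempty_iso_of_affineSpace [IsNoetherian Y] (hY : Pi1.IsNormalScheme Y) {P : Scheme.{u}}
    (ι : P ⟶ 𝔸(ULift.{u} (Fin n); Y)) [IsOpenImmersion ι] (p : P ⟶ Y)
    (hp : ι ≫ (𝔸(ULift.{u} (Fin n); Y) ↘ Y) = p) (σ : Y ⟶ P) (hσ : σ ≫ p = 𝟙 Y)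
    {M : P.Modules} (hM : PicF.IsInvertible M)
    (hsec : Nonempty ((Scheme.Modules.pullback σ).obj M ≅ Coh.structureModule Y)) :
    Nonempty (M ≅ Coh.structureModule P) := by
  haveI : Nonempty P := ⟨σ (genericPoint Y)⟩
  haveI : IsIntegral P := isIntegral_of_isOpenImmersion ι
  haveI : IsLocallyNoetherian 𝔸(ULift.{u} (Fin n); Y) :=
    LocallyOfFiniteType.isLocallyNoetherian (𝔸(ULift.{u} (Fin n); Y) ↘ Y)
  haveI : CompactSpace 𝔸(ULift.{u} (Fin n); Y) :=
    QuasiCompact.compactSpace_of_compactSpace (𝔸(ULift.{u} (Fin n); Y) ↘ Y)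
  haveI : IsNoetherian 𝔸(ULift.{u} (Fin n); Y) := { }
  haveI : NoetherianSpace P := ι.isOpenEmbedding.isInducing.noetherianSpace
  haveI : IsLocallyNoetherian P := isLocallyNoetherian_of_isOpenImmersion ι
  have hP : Pi1.IsNormalScheme P := fun z => by
    let e := (asIso (ι.stalkMap z)).commRingCatIsoToRingEquiv
    haveI := (isNormal_affineSpace (n := n) hY (ι z)).1
    haveI := (isNormal_affineSpace (n := n) hY (ι z)).2
    exact ⟨e.symm.injective.isDomain e.symm.toRingHom, IsIntegrallyClosed.of_equiv e⟩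
  have hpσ : ∀ y, p (σ y) = y := fun y => by
    show (σ ≫ p) y = y
    rw [hσ]; rfl
  have hpη : p (genericPoint P) = genericPoint Y := by
    refine (Specializes.antisymm ?_ (genericPoint_specializes _)).eq
    have := (genericPoint_specializes (σ (genericPoint Y))).map p.continuous
    rwa [hpσ] at this
  -- the dictionary in a chart
  have dict : ∀ {V : Y.Opens} (hV : IsAffineOpen V)
      (j : Spec (CommRingCat.of (MvPolynomial (ULift.{u} (Fin n)) Γ(Y, V))) ⟶ 𝔸(ULift.{u} (Fin n); Y))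
      [IsOpenImmersion j], j ≫ (𝔸(ULift.{u} (Fin n); Y) ↘ Y) =
        Spec.map (CommRingCat.ofHom MvPolynomial.C) ≫ hV.fromSpec →
      (∀ x, (𝔸(ULift.{u} (Fin n); Y) ↘ Y) x ∈ V → ∃ Q, j Q = x) → ∀ z : P, IsPrimeDiv z → p z ∈ V →
      ∃ Q : PrimeSpectrum (MvPolynomial (ULift.{u} (Fin n)) Γ(Y, V)),
        ι z = j Q ∧ IsMinNonzero Q.asIdeal ∧ p z = hV.fromSpec (PrimeSpectrum.comap MvPolynomial.C Q) := by
    intro V hV j _ hj hcov z hz hzV
    haveI : Nonempty V := ⟨⟨_, hzV⟩⟩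
    obtain ⟨Q, hQ⟩ := hcov (ι z) (by rw [← hp] at hzV; exact hzV)
    refine ⟨Q, hQ.symm, (isPrimeDiv_spec_iff Q).1 ?_, ?_⟩
    · rw [← isPrimeDiv_iff_of_isOpenImmersion j, hQ, isPrimeDiv_iff_of_isOpenImmersion ι]
      exact hz
    · show p z = (Spec.map (CommRingCat.ofHom MvPolynomial.C) ≫ hV.fromSpec) Q
      rw [← hj, ← hp, Scheme.Hom.comp_apply, Scheme.Hom.comp_apply, hQ]
  have hbot : ∀ {V : Y.Opens} (hV : IsAffineOpen V) [Nonempty V] (q : PrimeSpectrum Γ(Y, V)),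
      hV.fromSpec q = genericPoint Y ↔ q.asIdeal = ⊥ := by
    intro V hV _ q
    rw [← genericPoint_eq_of_isOpenImmersion hV.fromSpec, genericPoint_eq_bot_of_affine]
    exact ⟨fun h => congrArg PrimeSpectrum.asIdeal (hV.fromSpec.isOpenEmbedding.injective h),
      fun h => congrArg hV.fromSpec (PrimeSpectrum.ext h)⟩
  refine nonempty_iso_of_section hP hY p σ hσ hpη (fun z hz hzη => ?_) (fun z hz hzη => ?_) hM hsec
  · obtain ⟨V, hV, hVη, -⟩ := exists_isAffineOpen_mem_and_subset (x := genericPoint Y) (U := (⊤ : Y.Opens)) trivial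
    haveI : Nonempty V := ⟨⟨_, hVη⟩⟩
    obtain ⟨j, _, hj, hcov⟩ := exists_chart (ULift.{u} (Fin n)) hV
    obtain ⟨Q, hzQ, hQm, hQp⟩ := dict hV j hj hcov z hz (hzη ▸ hVη)
    obtain ⟨a, haQ, hagen, haoth⟩ := exists_gen_of_comap_C Q.asIdeal hQm ((hbot hV _).1 (hQp.symm.trans hzη))
    have hzD : z ∈ ι ⁻¹ᵁ (j ''ᵁ ⊤) := ⟨Q, trivial, hzQ.symm⟩
    obtain ⟨_, _⟩ := isDVR_of_primeDiv hP hz
    refine ⟨P.presheaf.germ (ι ⁻¹ᵁ (j ''ᵁ ⊤)) (genericPoint P) (gen_mem hzD) (ι.app _ (chartSec j a)),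
      ⟨_, (chartSec_stalk j ι a Q hzQ hzD).2 ⟨haQ, hagen⟩, toK_germ hzD _⟩, fun w hw hwη hne => ?_⟩
    obtain ⟨q, hwq, hqm, hqp⟩ := dict hV j hj hcov w hw (hwη ▸ hVη)
    have hwD : w ∈ ι ⁻¹ᵁ (j ''ᵁ ⊤) := ⟨q, trivial, hwq.symm⟩
    refine ⟨_, (chartSec_stalk j ι a q hwq hwD).1 fun haq => hne (ι.isOpenEmbedding.injective ?_), toK_germ hwD _⟩
    rw [hwq, hzQ, show q = Q from PrimeSpectrum.ext
      (haoth q.asIdeal q.2 hqm ((hbot hV _).1 (hqp.symm.trans hwη)) haq)]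
  · obtain ⟨V, hV, hzV, -⟩ := exists_isAffineOpen_mem_and_subset (x := p z) (U := (⊤ : Y.Opens)) trivial
    haveI : Nonempty V := ⟨⟨_, hzV⟩⟩
    obtain ⟨j, _, hj, hcov⟩ := exists_chart (ULift.{u} (Fin n)) hV
    obtain ⟨Q, hzQ, hQm, hQp⟩ := dict hV j hj hcov z hz hzV
    obtain ⟨hqm, hQeq⟩ := eq_map_comap_C Q.asIdeal hQm fun h => hzη (hQp.trans ((hbot hV _).2 h))
    refine ⟨?_, fun z' hz' hzz' => ι.isOpenEmbedding.injective ?_⟩
    · rw [hQp, isPrimeDiv_iff_of_isOpenImmersion, isPrimeDiv_spec_iff]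
      exact hqm
    · obtain ⟨Q', hzQ', hQm', hQp'⟩ := dict hV j hj hcov z' hz' (hzz' ▸ hzV)
      have hqq := hV.fromSpec.isOpenEmbedding.injective (hQp'.symm.trans (hzz'.trans hQp))
      obtain ⟨-, hQeq'⟩ := eq_map_comap_C Q'.asIdeal hQm' fun h => hzη (hzz' ▸ hQp'.trans ((hbot hV _).2 h))
      rw [hzQ, hzQ', show Q' = Q from PrimeSpectrum.ext (hQeq'.trans ((congrArg
        (fun r : PrimeSpectrum Γ(Y, V) => r.asIdeal.map MvPolynomial.C) hqq).trans hQeq.symm))]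

end Groth.Agent.PicNormal23
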