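import Groth.Agent.PicLib.Invertible
import Groth.Agent.AmpleLib.Power
import Groth.Agent.CAlgMisc2.Normal
import Groth.Agent.QCohLoc.Basic
import Mathlib.AlgebraicGeometry.FunctionField
import Groth.Prelude.Def_Pi1

/-!
# Rational sections of invertible modules on normal integral schemes

`GenAt M ξ z` says that the element `ξ` of the generic stalk is a generator of `M` at `z`. On a normal
Noetherian scheme it suffices to know this at the points of codimension one.
-/

set_option autoImplicit false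
set_option linter.style.haveILetI false
set_option backward.isDefEq.respectTransparency.types false

universe u

open CategoryTheory AlgebraicGeometry Opposite TopologicalSpace IsLocalRing
open Groth.Agent.Coherent Groth.Agent.PicLib

namespace Groth.Agent.PicNormal23

variable {P : Scheme.{u}} [IsIntegral P]

local notation "η" => genericPoint P

theorem gen_mem {W : P.Opens} {z : P} (hz : z ∈ W) : η ∈ W := (genericPoint_specializes z).mem_open W.2 hz

/-- `ξ` is a generator of `M` at `z`. -/
def GenAt (M : P.Modules) (ξ : M.presheaf.stalk η) (z : P) : Prop :=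
  ∃ (W : P.Opens) (hz : z ∈ W) (e : Γ(M, W)), IsGen M W e ∧ M.presheaf.germ W η (gen_mem hz) e = ξ

/-- A point of codimension one. -/
def IsPrimeDiv (z : P) : Prop := z ≠ η ∧ ∀ w, w ⤳ z → w = z ∨ w = η

/-- The map from a local ring to the function field. -/
noncomputable def toK (z : P) : P.presheaf.stalk z →+* P.functionField :=
  (P.presheaf.stalkSpecializes (genericPoint_specializes z)).hom

theorem toK_germ {z : P} {W : P.Opens} (hz : z ∈ W) (r : Γ(P, W)) :
    toK z (P.presheaf.germ W z hz r) = P.presheaf.germ W η (gen_mem hz) r :=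
  TopCat.Presheaf.germ_stalkSpecializes_apply P.presheaf hz _ r

theorem germ_injective {M : P.Modules} (hM : PicF.IsInvertible M) {W : P.Opens} (hη : η ∈ W) {a b : Γ(M, W)}
    (h : M.presheaf.germ W η hη a = M.presheaf.germ W η hη b) : a = b := by
  refine AmpleLib.sec_ext M a b fun y hy => ?_
  obtain ⟨U, hyU, g, hg⟩ := exists_isGen hM y
  have hle : W ⊓ U ≤ W := inf_le_left
  have hgV := hg.restrict (inf_le_right : W ⊓ U ≤ U)
  refine ⟨W ⊓ U, hle, ⟨hy, hyU⟩, ?_⟩
  have hη' : η ∈ W ⊓ U := gen_mem ⟨hy, hyU⟩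
  have ea := hgV.coef_spec le_rfl (resM M hle a)
  have eb := hgV.coef_spec le_rfl (resM M hle b)
  rw [resM_self] at ea eb
  haveI : Nonempty (W ⊓ U : P.Opens) := ⟨⟨y, hy, hyU⟩⟩
  have hab : M.presheaf.germ (W ⊓ U) η hη' (resM M hle a) = M.presheaf.germ (W ⊓ U) η hη' (resM M hle b) := by
    simp only [show ∀ x, M.presheaf.germ (W ⊓ U) η hη' (resM M hle x) = M.presheaf.germ W η hη x from
      fun x => TopCat.Presheaf.germ_res_apply M.presheaf (homOfLE hle) η hη' x]
    exact h
  rw [← ea, ← eb, QCohLoc.germ_smul', QCohLoc.germ_smul'] at hab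
  by_contra hne
  have hc : hgV.coef le_rfl (resM M hle a) ≠ hgV.coef le_rfl (resM M hle b) := fun e => hne (by
    rw [← ea, e, eb])
  have hg0 : M.presheaf.germ (W ⊓ U) η hη' (resM M (inf_le_right : W ⊓ U ≤ U) g) ≠ 0 := by
    intro h0
    obtain ⟨V, hηV, i₁, i₂, e⟩ := TopCat.Presheaf.germ_eq M.presheaf η hη' hη'
      (resM M (inf_le_right : W ⊓ U ≤ U) g) 0 (h0.trans (map_zero _).symm)
    rw [map_zero] at e
    have hV : V ≤ U := i₁.le.trans inf_le_right
    have e' : resM M hV g = 0 := by rw [← resM_resM M (inf_le_right : W ⊓ U ≤ U) i₁.le]; exact e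
    have hbij := (hg V hV).1 (a₁ := 1) (a₂ := 0) (by simp [e'])
    haveI : Nonempty V := ⟨⟨η, hηV⟩⟩
    exact one_ne_zero hbij
  refine hc (AlgebraicGeometry.germ_injective_of_isIntegral P η hη' (sub_eq_zero.1 ?_))
  have h0 := sub_eq_zero.2 hab
  rw [← sub_smul] at h0
  by_contra hne'
  exact hg0 (((isUnit_iff_ne_zero.2 hne').smul_eq_zero).1 h0)

theorem exists_coef {M : P.Modules} (ξ : M.presheaf.stalk η) {W : P.Opens} (hη : η ∈ W) {e : Γ(M, W)}
    (he : IsGen M W e) : ∃ φ : P.functionField, ξ = φ • M.presheaf.germ W η hη e := by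
  obtain ⟨V, hηV, x, rfl⟩ := M.presheaf.exists_germ_eq ξ
  have h := he.coef_spec (inf_le_right : V ⊓ W ≤ W) (resM M inf_le_left x)
  refine ⟨P.presheaf.germ (V ⊓ W) η ⟨hηV, hη⟩ (he.coef inf_le_right (resM M inf_le_left x)), ?_⟩
  have h' := congrArg (M.presheaf.germ (V ⊓ W) η ⟨hηV, hη⟩) h
  rw [QCohLoc.germ_smul', show M.presheaf.germ (V ⊓ W) η ⟨hηV, hη⟩ (resM M inf_le_right e) = _ from
      TopCat.Presheaf.germ_res_apply M.presheaf (homOfLE inf_le_right) η _ e,
    show M.presheaf.germ (V ⊓ W) η ⟨hηV, hη⟩ (resM M inf_le_left x) = _ from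
      TopCat.Presheaf.germ_res_apply M.presheaf (homOfLE inf_le_left) η _ x] at h'
  exact h'.symm

theorem germ_ne_zero {M : P.Modules} (hM : PicF.IsInvertible M) {W : P.Opens} (hη : η ∈ W) {e : Γ(M, W)}
    (he : IsGen M W e) : M.presheaf.germ W η hη e ≠ 0 := fun h => by
  have h0 : e = 0 := germ_injective hM hη (h.trans (map_zero _).symm)
  have hb := (he W le_rfl).1 (a₁ := 1) (a₂ := 0) (by simp [h0])
  haveI : Nonempty W := ⟨⟨η, hη⟩⟩
  exact one_ne_zero hb

/-- In terms of a coordinate: `ξ` generates at `z` iff its coefficient is a unit there. -/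
theorem genAt_iff {M : P.Modules} (hM : PicF.IsInvertible M) {ξ : M.presheaf.stalk η} {W : P.Opens} {z : P}
    (hz : z ∈ W) {e : Γ(M, W)} (he : IsGen M W e) {φ : P.functionField}
    (hφ : ξ = φ • M.presheaf.germ W η (gen_mem hz) e) :
    GenAt M ξ z ↔ ∃ u : P.presheaf.stalk z, IsUnit u ∧ toK z u = φ := by
  constructor
  · rintro ⟨W', hz', e', he', hξ⟩
    let V := W ⊓ W'
    have h1 := (he.restrict (inf_le_left : V ≤ W)).coef_spec le_rfl (resM M (inf_le_right : V ≤ W') e')
    rw [resM_self] at h1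
    have hu := (he.restrict (inf_le_left : V ≤ W)).isUnit_coef (he'.restrict (inf_le_right : V ≤ W'))
    set c := (he.restrict (inf_le_left : V ≤ W)).coef le_rfl (resM M (inf_le_right : V ≤ W') e')
    have hηV : η ∈ V := gen_mem ⟨hz, hz'⟩
    refine ⟨P.presheaf.germ V z ⟨hz, hz'⟩ c, hu.map _, ?_⟩
    rw [toK_germ]
    have h2 := congrArg (M.presheaf.germ V η hηV) h1
    rw [QCohLoc.germ_smul', show M.presheaf.germ V η hηV (resM M inf_le_left e) = _ from
        TopCat.Presheaf.germ_res_apply M.presheaf (homOfLE inf_le_left) η _ e,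
      show M.presheaf.germ V η hηV (resM M inf_le_right e') = _ from
        TopCat.Presheaf.germ_res_apply M.presheaf (homOfLE inf_le_right) η _ e', hξ, hφ] at h2
    have h3 := sub_eq_zero.2 h2
    rw [← sub_smul] at h3
    by_contra hne
    exact germ_ne_zero hM (gen_mem hz) he (((isUnit_iff_ne_zero.2 (sub_ne_zero.2 hne)).smul_eq_zero).1 h3)
  · rintro ⟨u, hu, rfl⟩
    obtain ⟨V, hzV, r, rfl⟩ := P.presheaf.exists_germ_eq u
    have hzr : z ∈ P.basicOpen r := (P.mem_basicOpen r z hzV).2 hu
    let V' := W ⊓ P.basicOpen r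
    have hr : IsUnit (res ((inf_le_right : V' ≤ _).trans (P.basicOpen_le r)) r) := by
      have := (RingedSpace.isUnit_res_basicOpen P.toRingedSpace r).map (res (inf_le_right : V' ≤ P.basicOpen r))
      convert this using 1
      exact ConcreteCategory.congr_hom (P.presheaf.map_comp _ _) r
    refine ⟨V', ⟨hz, hzr⟩, hr.unit.1 • resM M inf_le_left e, (he.restrict inf_le_left).smul_unit _, ?_⟩
    rw [QCohLoc.germ_smul', hφ, toK_germ]
    congr 1
    · exact TopCat.Presheaf.germ_res_apply P.presheaf (homOfLE _) η _ r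
    · exact TopCat.Presheaf.germ_res_apply M.presheaf (homOfLE inf_le_left) η _ e

theorem fromSpecStalk_bot (z : P) [IsDomain (P.presheaf.stalk z)] :
    P.fromSpecStalk z (⊥ : PrimeSpectrum (P.presheaf.stalk z)) = η := by
  obtain ⟨q, hq⟩ : η ∈ Set.range (P.fromSpecStalk z) :=
    P.range_fromSpecStalk.ge (genericPoint_specializes z)
  refine (Specializes.antisymm ?_ (genericPoint_specializes _)).eq
  conv_rhs => rw [← hq]
  exact Specializes.map ((PrimeSpectrum.le_iff_specializes _ q).1 bot_le) (P.fromSpecStalk z).continuous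

/-- Localisations of a local ring at generizations. -/
theorem exists_frac_stalk {z w : P} (p : PrimeSpectrum (P.presheaf.stalk z)) (hw : w = P.fromSpecStalk z p)
    (u : P.presheaf.stalk w) :
    ∃ a s : P.presheaf.stalk z, s ∉ p.asIdeal ∧ toK w u * toK z s = toK z a := by
  have hwz : w ⤳ z := hw ▸ P.range_fromSpecStalk.le ⟨p, rfl⟩
  obtain ⟨V, hV, hzV, -⟩ := exists_isAffineOpen_mem_and_subset (x := z) (U := (⊤ : P.Opens)) trivial
  have hwV : w ∈ V := hwz.mem_open V.2 hzV
  letI := TopCat.Presheaf.algebra_section_stalk P.presheaf (⟨w, hwV⟩ : V)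
  haveI := hV.isLocalization_stalk ⟨w, hwV⟩
  obtain ⟨⟨a, s⟩, e⟩ := IsLocalization.surj (hV.primeIdealOf ⟨w, hwV⟩).asIdeal.primeCompl u
  refine ⟨P.presheaf.germ V z hzV a, P.presheaf.germ V z hzV s.1, ?_, ?_⟩
  · have hp : p.asIdeal = (maximalIdeal (P.presheaf.stalk w)).comap (P.presheaf.stalkSpecializes hwz).hom := by
      have h1 : P.fromSpecStalk z (Spec.map (P.presheaf.stalkSpecializes hwz) (closedPoint _)) = w := by
        show (Spec.map (P.presheaf.stalkSpecializes hwz) ≫ P.fromSpecStalk z) (closedPoint _) = w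
        rw [Scheme.SpecMap_stalkSpecializes_fromSpecStalk]
        exact Scheme.fromSpecStalk_closedPoint
      exact (congrArg PrimeSpectrum.asIdeal ((P.fromSpecStalk z).isEmbedding.injective (h1.trans hw))).symm
    rw [hp, Ideal.mem_comap]
    refine fun h => (mem_maximalIdeal _).1 h ?_
    rw [show (P.presheaf.stalkSpecializes hwz).hom (P.presheaf.germ V z hzV s.1) = _ from
      TopCat.Presheaf.germ_stalkSpecializes_apply P.presheaf hzV _ s.1]
    exact IsLocalization.map_units (P.presheaf.stalk w) s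
  · rw [toK_germ, toK_germ, ← toK_germ hwV, ← toK_germ hwV, ← map_mul]
    refine congrArg (toK w) ?_
    exact e

/-- A rational function which is a unit in codimension one is a unit. -/
theorem exists_unit_of_primeDiv [IsLocallyNoetherian P] (hN : Pi1.IsNormalScheme P) (z : P) (φ : P.functionField)
    (h : ∀ w, w ⤳ z → IsPrimeDiv w → ∃ u : P.presheaf.stalk w, IsUnit u ∧ toK w u = φ) (hφ : φ ≠ 0) :
    ∃ u : P.presheaf.stalk z, IsUnit u ∧ toK z u = φ := by
  haveI := (hN z).1
  haveI := (hN z).2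
  let R := P.presheaf.stalk z
  let E : FractionRing R ≃ₐ[R] P.functionField := IsLocalization.algEquiv (nonZeroDivisors R) _ _
  have halg : ∀ r : R, algebraMap R P.functionField r = toK z r := fun r => rfl
  have key : ∀ ψ : P.functionField,
      (∀ w, w ⤳ z → IsPrimeDiv w → ∃ u : P.presheaf.stalk w, toK w u = ψ) → ∃ r : R, toK z r = ψ := by
    intro ψ hψ
    obtain ⟨r, hr⟩ := CAlgMisc2.mem_range_of_forall_height_one (R := R) (E.symm ψ) (fun p hp hp1 => by
      let pp : PrimeSpectrum R := ⟨p, hp⟩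
      have hinj := (P.fromSpecStalk z).isEmbedding
      have hwz : P.fromSpecStalk z pp ⤳ z := P.range_fromSpecStalk.le ⟨pp, rfl⟩
      have hbot : p ≠ ⊥ := fun hb => by
        rw [hb, Ideal.height_bot] at hp1
        exact zero_ne_one hp1
      have hdiv : IsPrimeDiv (P.fromSpecStalk z pp) := by
        refine ⟨fun e => hbot (congrArg PrimeSpectrum.asIdeal (hinj.injective (e.trans (fromSpecStalk_bot z).symm))),
          fun v hv => ?_⟩
        obtain ⟨q, rfl⟩ : v ∈ Set.range (P.fromSpecStalk z) := P.range_fromSpecStalk.ge (hv.trans hwz)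
        let q' : PrimeSpectrum R := q
        have hle : q' ≤ pp := (PrimeSpectrum.le_iff_specializes _ _).2 (hinj.isInducing.specializes_iff.1 hv)
        rcases hle.lt_or_eq with hlt | heq
        · right
          have h0 : q.asIdeal.height = 0 := by
            have := Ideal.height_strict_mono_of_isPrime (I := q'.asIdeal) (J := p) hlt
            rw [hp1] at this
            exact Order.lt_one_iff.1 this
          rw [Ideal.height_eq_zero_iff, IsDomain.minimalPrimes_eq_singleton_bot, Set.mem_singleton_iff] at h0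
          rw [show q = (⊥ : PrimeSpectrum R) from PrimeSpectrum.ext h0]
          exact fromSpecStalk_bot z
        · exact Or.inl (congrArg (P.fromSpecStalk z) heq)
      obtain ⟨u, hu⟩ := hψ _ hwz hdiv
      obtain ⟨a, s, hs, e⟩ := exists_frac_stalk pp rfl u
      refine ⟨a, s, hs, E.injective ?_⟩
      rw [map_mul, E.apply_symm_apply, E.commutes, E.commutes, halg, halg, ← hu]
      exact e)
    refine ⟨r, ?_⟩
    rw [← halg, ← E.commutes, hr, E.apply_symm_apply]
  obtain ⟨r, hr⟩ := key φ fun w h1 h2 => (h w h1 h2).imp fun u hu => hu.2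
  obtain ⟨r', hr'⟩ := key φ⁻¹ fun w h1 h2 => by
    obtain ⟨u, hu, he⟩ := h w h1 h2
    obtain ⟨v, rfl⟩ := hu
    refine ⟨(↑v⁻¹ : P.presheaf.stalk w), ?_⟩
    rw [← he]
    exact (inv_eq_of_mul_eq_one_right (by rw [← map_mul, Units.mul_inv, map_one])).symm
  refine ⟨r, IsUnit.of_mul_eq_one r' (IsFractionRing.injective R P.functionField ?_), hr⟩
  rw [map_mul, map_one, halg, halg, hr, hr', mul_inv_cancel₀ hφ]

/-- On a normal scheme, generating in codimension one suffices. -/
theorem genAt_of_primeDiv [IsLocallyNoetherian P] (hN : Pi1.IsNormalScheme P) {M : P.Modules}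
    (hM : PicF.IsInvertible M) {ξ : M.presheaf.stalk η} (hξ : ξ ≠ 0) (z : P)
    (h : ∀ w, w ⤳ z → IsPrimeDiv w → GenAt M ξ w) : GenAt M ξ z := by
  obtain ⟨W, hz, e, he⟩ := exists_isGen hM z
  obtain ⟨φ, hφ⟩ := exists_coef ξ (gen_mem hz) he
  refine (genAt_iff hM hz he hφ).2 (exists_unit_of_primeDiv hN z φ (fun w hw hd => ?_) ?_)
  · exact (genAt_iff hM (hw.mem_open W.2 hz) he hφ).1 (h w hw hd)
  · rintro rfl
    exact hξ (hφ.trans (zero_smul _ _))

/-- A rational section generating everywhere trivialises the module. -/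
theorem nonempty_iso_of_genAt {M : P.Modules} (hM : PicF.IsInvertible M) {ξ : M.presheaf.stalk η}
    (h : ∀ z, GenAt M ξ z) : Nonempty (M ≅ Coh.structureModule P) := by
  choose W hzW e he hξ using h
  obtain ⟨s, hs, -⟩ := TopCat.Sheaf.existsUnique_gluing' (⟨M.presheaf, M.isSheaf⟩ : TopCat.Sheaf Ab P)
    W ⊤ (fun z => homOfLE le_top) (fun z _ => Opens.mem_iSup.2 ⟨z, hzW z⟩) e (fun a b => by
      refine germ_injective hM (W := W a ⊓ W b) ⟨gen_mem (hzW a), gen_mem (hzW b)⟩ ?_
      exact ((TopCat.Presheaf.germ_res_apply M.presheaf (homOfLE inf_le_left) η _ (e a)).trans (hξ a)).trans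
        ((TopCat.Presheaf.germ_res_apply M.presheaf (homOfLE inf_le_right) η _ (e b)).trans (hξ b)).symm)
  have hgen : IsGen M ⊤ s := isGen_of_cover W (fun z => le_top) (fun z _ => Opens.mem_iSup.2 ⟨z, hzW z⟩)
    fun z => by
      show IsGen M (W z) (resM M le_top s)
      rw [show resM M (le_top : W z ≤ ⊤) s = e z from hs z]
      exact he z
  haveI := isIso_of_isGen (unitDesc M s) (by rw [unitVal_unitDesc, resM_self]; exact hgen)
  exact ⟨(asIso (unitDesc M s)).symm⟩

end Groth.Agent.PicNormal23
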